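import Mathlib.RingTheory.HopfAlgebra.Convolution
import Mathlib.RingTheory.Filtration
import Mathlib.RingTheory.Spectrum.Prime.Topology
import Mathlib.RingTheory.Spectrum.Prime.Jacobson
import Groth.Agent.Books.PointsAC

/-! Intersection of the powers of the augmentation ideal of a connected affine algebraic group. -/

set_option autoImplicit false
universe u v

namespace K928.Krull

open WithConv

variable {k : Type u} [Field k] {A : Type v} [CommRing A] [HopfAlgebra k A]

/-- constant point of `A` -/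
noncomputable def cst (g : WithConv (A →ₐ[k] k)) : WithConv (A →ₐ[k] A) :=
  toConv ((Algebra.ofId k A).comp g.ofConv)

/-- right translation on functions -/
noncomputable def Rt (g : WithConv (A →ₐ[k] k)) : A →ₐ[k] A :=
  (toConv (AlgHom.id k A) * cst g).ofConv

theorem cst_mul (g h : WithConv (A →ₐ[k] k)) : cst (g * h) = cst g * cst h := by
  have := AlgHom.comp_convMul_distrib (Algebra.ofId k A) g h
  apply WithConv.ofConv_injective
  exact this

theorem comp_Rt (h g : WithConv (A →ₐ[k] k)) : h.ofConv.comp (Rt g) = (h * g).ofConv := by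
  have := AlgHom.comp_convMul_distrib h.ofConv (toConv (AlgHom.id k A)) (cst g)
  rw [Rt, this]
  congr 2
  apply WithConv.ofConv_injective
  ext a
  simp [cst, Algebra.ofId_apply]

theorem Rt_apply (h g : WithConv (A →ₐ[k] k)) (a : A) : h.ofConv (Rt g a) = (h * g).ofConv a :=
  DFunLike.congr_fun (comp_Rt h g) a

theorem Rt_comp (g h : WithConv (A →ₐ[k] k)) : (Rt g).comp (Rt h) = Rt (g * h) := by
  have := AlgHom.comp_convMul_distrib (Rt g) (toConv (AlgHom.id k A)) (cst h)
  change (Rt g).comp (toConv (AlgHom.id k A) * cst h).ofConv = _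
  have h2 : toConv ((Rt g).comp (cst h).ofConv) = cst h := by
    apply WithConv.ofConv_injective
    ext a
    simp [cst, Algebra.ofId_apply]
  rw [this, h2]
  conv_rhs => rw [Rt, cst_mul, ← mul_assoc]
  rfl

theorem Rt_Rt (g h : WithConv (A →ₐ[k] k)) (a : A) : Rt g (Rt h a) = Rt (g * h) a :=
  DFunLike.congr_fun (Rt_comp g h) a

theorem Rt_one (a : A) : Rt (1 : WithConv (A →ₐ[k] k)) a = a := by
  have h1 : cst (1 : WithConv (A →ₐ[k] k)) = 1 := by
    apply WithConv.ofConv_injective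
    ext a
    rfl
  rw [Rt, h1, mul_one]
  rfl

theorem Rt_inv_Rt (g : WithConv (A →ₐ[k] k)) (a : A) : Rt g⁻¹ (Rt g a) = a := by
  rw [Rt_Rt, inv_mul_cancel, Rt_one]

theorem Rt_Rt_inv (g : WithConv (A →ₐ[k] k)) (a : A) : Rt g (Rt g⁻¹ a) = a := by
  rw [Rt_Rt, mul_inv_cancel, Rt_one]

/-- `x` dies in the local ring of the point `g`. -/
def Dies (g : WithConv (A →ₐ[k] k)) (x : A) : Prop := ∃ s : A, g.ofConv s ≠ 0 ∧ s * x = 0

theorem dies_mul_iff (h g : WithConv (A →ₐ[k] k)) (x : A) : Dies (h * g) x ↔ Dies h (Rt g x) := by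
  constructor
  · rintro ⟨s, hs, hsx⟩
    refine ⟨Rt g s, ?_, ?_⟩
    · rwa [Rt_apply]
    · rw [← map_mul, hsx, map_zero]
  · rintro ⟨s, hs, hsx⟩
    refine ⟨Rt g⁻¹ s, ?_, ?_⟩
    · rw [Rt_apply]; simpa using hs
    · have := congrArg (Rt g⁻¹) hsx
      rwa [map_mul, Rt_inv_Rt, map_zero] at this

/-- the ideal of the elements dying at `1`. -/
def I1 (k : Type u) [Field k] (A : Type v) [CommRing A] [HopfAlgebra k A] : Ideal A where
  carrier := {x | Dies (1 : WithConv (A →ₐ[k] k)) x}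
  add_mem' := by
    rintro a b ⟨s, hs, hsa⟩ ⟨t, ht, htb⟩
    refine ⟨s * t, ?_, ?_⟩
    · rw [map_mul]; exact mul_ne_zero hs ht
    · rw [mul_add, mul_right_comm, hsa, mul_assoc, htb]; simp
  zero_mem' := ⟨1, by simp, by simp⟩
  smul_mem' := by
    rintro c x ⟨s, hs, hsx⟩
    refine ⟨s, hs, ?_⟩
    rw [smul_eq_mul, mul_left_comm, hsx, mul_zero]

theorem mem_I1 (x : A) : x ∈ I1 k A ↔ Dies (1 : WithConv (A →ₐ[k] k)) x := Iff.rfl

theorem dies_iff (g : WithConv (A →ₐ[k] k)) (x : A) : Dies g x ↔ Rt g x ∈ I1 k A := by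
  rw [mem_I1, ← dies_mul_iff, one_mul]

/-- a common annihilator. -/
theorem exists_ann [IsNoetherianRing A] :
    ∃ s : A, (1 : WithConv (A →ₐ[k] k)).ofConv s ≠ 0 ∧ ∀ x ∈ I1 k A, s * x = 0 := by
  obtain ⟨T, hT⟩ := (IsNoetherian.noetherian (I1 k A) : (I1 k A).FG)
  have h : ∀ T : Finset A, (∀ x ∈ T, Dies (1 : WithConv (A →ₐ[k] k)) x) →
      ∃ s : A, (1 : WithConv (A →ₐ[k] k)).ofConv s ≠ 0 ∧ ∀ x ∈ T, s * x = 0 := by
    classical
    intro T
    induction T using Finset.induction_on with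
    | empty => intro _; exact ⟨1, by simp, by simp⟩
    | insert a T ha ih =>
      intro h
      obtain ⟨s, hs, hsx⟩ := ih (fun x hx => h x (Finset.mem_insert_of_mem hx))
      obtain ⟨t, ht, hta⟩ := h a (Finset.mem_insert_self a T)
      refine ⟨s * t, by rw [map_mul]; exact mul_ne_zero hs ht, ?_⟩
      intro x hx
      rcases Finset.mem_insert.mp hx with rfl | hx
      · rw [mul_assoc, hta, mul_zero]
      · rw [mul_right_comm, hsx x hx, zero_mul]
  obtain ⟨s, hs, hsT⟩ := h T (fun x hx => by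
    have : x ∈ I1 k A := by rw [← hT]; exact Submodule.subset_span hx
    exact this)
  refine ⟨s, hs, fun x hx => ?_⟩
  rw [← hT] at hx
  induction hx using Submodule.span_induction with
  | mem x h => exact hsT x h
  | zero => simp
  | add x y _ _ hx hy => rw [mul_add, hx, hy, add_zero]
  | smul a x _ hx => rw [smul_eq_mul, mul_left_comm, hx, mul_zero]

/-- The stabilizer of `I1`. -/
def Stab (k : Type u) [Field k] (A : Type v) [CommRing A] [HopfAlgebra k A] :
    Subgroup (WithConv (A →ₐ[k] k)) where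
  carrier := {g | ∀ x, Rt g x ∈ I1 k A ↔ x ∈ I1 k A}
  mul_mem' := by
    intro a b ha hb x
    rw [← Rt_Rt, ha, hb]
  one_mem' := by
    intro x; rw [Rt_one]
  inv_mem' := by
    intro g hg x
    rw [← hg (Rt g⁻¹ x), Rt_Rt_inv]

theorem mem_Stab (g : WithConv (A →ₐ[k] k)) :
    g ∈ Stab k A ↔ ∀ x, Rt g x ∈ I1 k A ↔ x ∈ I1 k A := Iff.rfl

theorem mem_Stab_of_le [IsNoetherianRing A] (g : WithConv (A →ₐ[k] k))
    (h : ∀ x ∈ I1 k A, Rt g x ∈ I1 k A) : g ∈ Stab k A := by
  -- iterate the preimage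
  have hsurj : Function.Surjective (Rt g) := fun a => ⟨_, Rt_Rt_inv g a⟩
  let F : ℕ → Ideal A := fun n => (fun J : Ideal A => J.comap (Rt g))^[n] (I1 k A)
  have hF : ∀ n, F (n + 1) = (F n).comap (Rt g) := fun n => by
    simp only [F, Function.iterate_succ_apply']
  have hmono : Monotone F := by
    apply monotone_nat_of_le_succ
    intro n
    induction n with
    | zero =>
      rw [hF]
      intro x hx
      exact h x hx
    | succ n ih =>
      rw [hF, hF (n + 1)]
      exact Ideal.comap_mono ih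
  obtain ⟨n, hn⟩ := monotone_stabilizes_iff_noetherian.mpr
    (inferInstance : IsNoetherian A A) ⟨F, hmono⟩
  have hn1 : F n = F (n + 1) := hn (n + 1) (Nat.le_succ n)
  have hinj : ∀ m : ℕ, F m = F (m + 1) → F 0 = F 1 := by
    intro m
    induction m with
    | zero => exact id
    | succ m ih =>
      intro h
      apply ih
      rw [hF, hF (m + 1)] at h
      exact Ideal.comap_injective_of_surjective (Rt g) hsurj h
  have h01 := hinj n hn1
  intro x
  have h2 : F 1 = (I1 k A).comap (Rt g) := hF 0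
  have h3 : F 0 = I1 k A := rfl
  rw [h2, h3] at h01
  constructor
  · intro hx
    rw [h01]
    exact hx
  · exact h x

theorem mem_Stab_of_ne_zero [IsNoetherianRing A] (s : A) (hs : ∀ x ∈ I1 k A, s * x = 0)
    (g : WithConv (A →ₐ[k] k)) (hg : g.ofConv s ≠ 0) : g ∈ Stab k A := by
  apply mem_Stab_of_le
  intro x hx
  rw [← dies_iff]
  exact ⟨s, hg, hs x hx⟩

theorem Stab_eq_top [IsAlgClosed k] [Algebra.FiniteType k A]
    (hconn : ∀ e : A, IsIdempotentElem e → e = 0 ∨ e = 1) : Stab k A = ⊤ := by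
  have hnoeth : IsNoetherianRing A := Algebra.FiniteType.isNoetherianRing k A
  obtain ⟨s, hs1, hs⟩ := exists_ann (k := k) (A := A)
  rw [eq_top_iff]
  intro g₀ _
  by_contra hg₀
  -- two families of functions
  let a : Set A := {x | ∃ g ∈ Stab k A, x = Rt g⁻¹ s}
  let b : Set A := {x | ∃ g, g ∉ Stab k A ∧ x = Rt g⁻¹ s}
  have ha : ∀ h : WithConv (A →ₐ[k] k), ∀ x ∈ a, h.ofConv x ≠ 0 → h ∈ Stab k A := by
    rintro h x ⟨g, hg, rfl⟩ hx
    rw [Rt_apply] at hx
    have := mem_Stab_of_ne_zero s hs _ hx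
    simpa using (Stab k A).mul_mem this hg
  have hb : ∀ h : WithConv (A →ₐ[k] k), ∀ x ∈ b, h.ofConv x ≠ 0 → h ∉ Stab k A := by
    rintro h x ⟨g, hg, rfl⟩ hx hh
    rw [Rt_apply] at hx
    have := mem_Stab_of_ne_zero s hs _ hx
    apply hg
    have h2 := (Stab k A).mul_mem ((Stab k A).inv_mem this) hh
    simpa using h2
  have hprod : ∀ x ∈ a, ∀ y ∈ b, IsNilpotent (x * y) := by
    intro x hx y hy
    apply Groth.Agent.Books.PointsAC.isNilpotent_of_forall_point k A
    intro h
    by_contra hne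
    rw [map_mul] at hne
    exact hb (toConv h) y hy (right_ne_zero_of_mul hne)
      (ha (toConv h) x hx (left_ne_zero_of_mul hne))
  have hcov : Ideal.span (a ∪ b) = ⊤ := by
    by_contra hne
    obtain ⟨m, hm, hle⟩ := Ideal.exists_le_maximal _ hne
    obtain ⟨g, rfl⟩ := Groth.Agent.Books.PointsAC.exists_point_of_isMaximal k A m
    have hmem : Rt (toConv g)⁻¹ s ∈ a ∪ b := by
      by_cases hg : toConv g ∈ Stab k A
      · exact Or.inl ⟨_, hg, rfl⟩
      · exact Or.inr ⟨_, hg, rfl⟩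
    have := hle (Submodule.subset_span hmem)
    rw [RingHom.mem_ker] at this
    have h2 : (toConv g).ofConv (Rt (toConv g)⁻¹ s) = 0 := this
    rw [Rt_apply, mul_inv_cancel] at h2
    exact hs1 h2
  -- clopen decomposition
  have hdisj : PrimeSpectrum.zeroLocus a ∪ PrimeSpectrum.zeroLocus b = Set.univ := by
    rw [Set.eq_univ_iff_forall]
    intro p
    by_contra hp
    rw [Set.mem_union, not_or, PrimeSpectrum.mem_zeroLocus, PrimeSpectrum.mem_zeroLocus,
      Set.not_subset, Set.not_subset] at hp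
    obtain ⟨⟨x, hx, hxp⟩, ⟨y, hy, hyp⟩⟩ := hp
    have hnil := hprod x hx y hy
    have : x * y ∈ p.asIdeal := by
      have := nilradical_le_prime p.asIdeal (mem_nilradical.mpr hnil)
      exact this
    rcases p.isPrime.mem_or_mem this with h | h
    · exact hxp h
    · exact hyp h
  have hint : PrimeSpectrum.zeroLocus a ∩ PrimeSpectrum.zeroLocus b = ∅ := by
    rw [← PrimeSpectrum.zeroLocus_union, ← PrimeSpectrum.zeroLocus_span, hcov]
    simp
  have hclopen : IsClopen (PrimeSpectrum.zeroLocus a) := by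
    refine ⟨PrimeSpectrum.isClosed_zeroLocus a, ?_⟩
    have : PrimeSpectrum.zeroLocus a = (PrimeSpectrum.zeroLocus b)ᶜ := by
      ext p
      constructor
      · intro hp hp'
        have : p ∈ PrimeSpectrum.zeroLocus a ∩ PrimeSpectrum.zeroLocus b := ⟨hp, hp'⟩
        rw [hint] at this
        exact this
      · intro hp
        have : p ∈ PrimeSpectrum.zeroLocus a ∪ PrimeSpectrum.zeroLocus b := by
          rw [hdisj]; trivial
        exact this.resolve_right hp
    rw [this]
    exact (PrimeSpectrum.isClosed_zeroLocus b).isOpen_compl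
  have h1a : s ∈ a := ⟨1, (Stab k A).one_mem, by rw [inv_one, Rt_one]⟩
  have h1b : Rt g₀⁻¹ s ∈ b := ⟨g₀, hg₀, rfl⟩
  -- kernels of the points 1 and g₀
  let P1 : PrimeSpectrum A := ⟨RingHom.ker ((1 : WithConv (A →ₐ[k] k)).ofConv), RingHom.ker_isPrime _⟩
  let P0 : PrimeSpectrum A := ⟨RingHom.ker g₀.ofConv, RingHom.ker_isPrime _⟩
  have hP1 : P1 ∉ PrimeSpectrum.zeroLocus a := by
    intro h
    have := h h1a
    exact hs1 this
  have hP0 : P0 ∉ PrimeSpectrum.zeroLocus b := by
    intro h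
    have h2 : g₀.ofConv (Rt g₀⁻¹ s) = 0 := h h1b
    rw [Rt_apply, mul_inv_cancel] at h2
    exact hs1 h2
  rw [PrimeSpectrum.isClopen_iff] at hclopen
  obtain ⟨e, he, hae⟩ := hclopen
  rcases hconn e he with rfl | rfl
  · have : P0 ∈ PrimeSpectrum.zeroLocus a := by
      have := hdisj ▸ Set.mem_univ P0
      exact this.resolve_right hP0
    rw [hae] at this
    simp at this
  · apply hP1
    rw [hae]
    simp

theorem I1_eq_bot [IsAlgClosed k] [Algebra.FiniteType k A]
    (hconn : ∀ e : A, IsIdempotentElem e → e = 0 ∨ e = 1) : I1 k A = ⊥ := by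
  rw [eq_bot_iff]
  intro x hx
  rw [Submodule.mem_bot]
  by_contra hne
  have hann : Ideal.span {x} ≠ ⊥ := by simpa using hne
  -- annihilator is proper
  have hA : (Ideal.span {x}).annihilator ≠ ⊤ := by
    intro h
    rw [Submodule.annihilator_eq_top_iff] at h
    exact hann h
  obtain ⟨m, hm, hle⟩ := Ideal.exists_le_maximal _ hA
  obtain ⟨g, rfl⟩ := Groth.Agent.Books.PointsAC.exists_point_of_isMaximal k A m
  have hg : toConv g ∈ Stab k A := by rw [Stab_eq_top hconn]; trivial
  have h1 : Rt (toConv g) x ∈ I1 k A := (hg x).mpr hx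
  rw [← dies_iff] at h1
  obtain ⟨s, hs, hsx⟩ := h1
  apply hs
  have : s ∈ (Ideal.span {x}).annihilator := by
    rw [Submodule.mem_annihilator_span_singleton, smul_eq_mul, hsx]
  exact hle this

theorem main [IsAlgClosed k] [Algebra.FiniteType k A]
    (hconn : ∀ e : A, IsIdempotentElem e → e = 0 ∨ e = 1) :
    (⨅ n : ℕ, RingHom.ker (Bialgebra.counitAlgHom k A) ^ n) = ⊥ := by
  have hnoeth : IsNoetherianRing A := Algebra.FiniteType.isNoetherianRing k A
  rw [eq_bot_iff]
  intro x hx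
  rw [← I1_eq_bot (k := k) hconn]
  have h1 : x ∈ (⨅ n : ℕ, RingHom.ker (Bialgebra.counitAlgHom k A) ^ n • ⊤ : Submodule A A) := by
    simpa using hx
  rw [Ideal.mem_iInf_smul_pow_eq_bot_iff] at h1
  obtain ⟨r, hr⟩ := h1
  refine ⟨1 - r, ?_, ?_⟩
  · have : Bialgebra.counitAlgHom k A (r : A) = 0 := r.2
    have h2 : (1 : WithConv (A →ₐ[k] k)).ofConv (r : A) = 0 := this
    rw [map_sub, h2, map_one, sub_zero]
    exact one_ne_zero
  · rw [sub_mul, one_mul, sub_eq_zero]
    exact hr.symm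

end K928.Krull
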